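import Mathlib.CategoryTheory.ConnectedComponents
import Mathlib.CategoryTheory.Sites.Pullback
import Mathlib.CategoryTheory.Functor.KanExtension.Adjunction
import Mathlib.CategoryTheory.Filtered.Basic
import Mathlib.CategoryTheory.Limits.Comma
import Mathlib.CategoryTheory.Limits.Opposites
import Mathlib.CategoryTheory.Limits.Shapes.Opposites.Pullbacks
import Mathlib.CategoryTheory.Limits.Shapes.Opposites.Equalizers
import Mathlib.CategoryTheory.Comma.StructuredArrow.Basic
import Mathlib.Algebra.Category.Grp.AB
import Mathlib.Algebra.Category.Grp.Limits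
import Mathlib.Algebra.Category.Grp.Colimits

/-!
# Colimits over categories with pushouts and coequalizers are exact in abelian groups

Each connected component of such a category is filtered.
-/

set_option autoImplicit false
set_option linter.style.haveILetI false
set_option backward.isDefEq.respectTransparency false
set_option backward.isDefEq.respectTransparency.types false
universe u

open CategoryTheory CategoryTheory.Limits Opposite

namespace CompFilLib

set_option backward.defeqAttrib.useBackward true in
/-- The evaluation of a left Kan extension is a colimit. -/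
noncomputable def lanEvalIso {C D : Type u} [SmallCategory C] [SmallCategory D] (F : C ⥤ D) (X : D) :
    F.lan ⋙ (evaluation D AddCommGrpCat.{u}).obj X ≅
      (Functor.whiskeringLeft _ _ AddCommGrpCat.{u}).obj (CostructuredArrow.proj F X) ⋙ colim :=
  NatIso.ofComponents (fun G =>
    IsColimit.coconePointUniqueUpToIso
    (Functor.isPointwiseLeftKanExtensionLeftKanExtensionUnit F G X)
    (colimit.isColimit _)) (fun {G₁ G₂} φ => by
      apply (Functor.isPointwiseLeftKanExtensionLeftKanExtensionUnit F G₁ X).hom_ext
      intro T
      have h₁ := fun (G : C ⥤ AddCommGrpCat.{u}) => IsColimit.comp_coconePointUniqueUpToIso_hom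
        (Functor.isPointwiseLeftKanExtensionLeftKanExtensionUnit F G X) (colimit.isColimit _) T
      have h₂ := congr_app (F.lanUnit.naturality φ) T.left
      dsimp at h₁ h₂ ⊢
      simp only [Category.assoc] at h₁ ⊢
      simp only [Functor.lan, Functor.lanUnit] at h₂ ⊢
      rw [reassoc_of% h₁, NatTrans.naturality_assoc, ← reassoc_of% h₂, h₁,
        ι_colimMap, Functor.whiskerLeft_app]
      rfl)

variable (J : Type u) [SmallCategory J] [HasPushouts J] [HasCoequalizers J]

/-- The projection to the set of components. -/
abbrev proj : J ⥤ Discrete (ConnectedComponents J) := ConnectedComponents.functorToDiscrete _ id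

theorem exists_cocone_of_zigzag {a b : J} (h : Zigzag a b) : ∃ (c : J) (_ : a ⟶ c), Nonempty (b ⟶ c) := by
  induction h with
  | refl => exact ⟨a, 𝟙 a, ⟨𝟙 a⟩⟩
  | @tail b' c' _ h ih =>
    obtain ⟨c, f, ⟨g⟩⟩ := ih
    rcases h with ⟨⟨z⟩⟩ | ⟨⟨z⟩⟩
    · exact ⟨pushout g z, f ≫ pushout.inl _ _, ⟨pushout.inr _ _⟩⟩
    · exact ⟨c, f, ⟨z ≫ g⟩⟩

theorem isFiltered_component (c : Discrete (ConnectedComponents J)) :
    IsFiltered (CostructuredArrow (proj J) c) := by
  obtain ⟨c⟩ := c
  induction c using Quotient.inductionOn' with
  | h j₀ =>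
    haveI : Nonempty (CostructuredArrow (proj J) ⟨Quotient.mk'' j₀⟩) := ⟨CostructuredArrow.mk (Y := j₀) (𝟙 _)⟩
    refine { cocone_objs := fun X Y => ?_, cocone_maps := fun X Y f g => ?_ }
    · obtain ⟨z, f, ⟨g⟩⟩ := exists_cocone_of_zigzag J (Quotient.exact'
        ((Discrete.eq_of_hom X.hom).trans (Discrete.eq_of_hom Y.hom).symm))
      refine ⟨CostructuredArrow.mk (Y := z) (Discrete.eqToHom ?_),
        CostructuredArrow.homMk f (Subsingleton.elim _ _), CostructuredArrow.homMk g (Subsingleton.elim _ _), trivial⟩
      exact (Discrete.eq_of_hom ((proj J).map f)).symm.trans (Discrete.eq_of_hom X.hom)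
    · refine ⟨CostructuredArrow.mk (Y := coequalizer f.left g.left) (Discrete.eqToHom ?_),
        CostructuredArrow.homMk (coequalizer.π f.left g.left) (Subsingleton.elim _ _), ?_⟩
      · exact (Discrete.eq_of_hom ((proj J).map (coequalizer.π f.left g.left))).symm.trans
          (Discrete.eq_of_hom Y.hom)
      · exact CostructuredArrow.hom_ext _ _ (coequalizer.condition f.left g.left)

theorem colim_preservesFiniteLimits :
    PreservesFiniteLimits (colim (J := J) (C := AddCommGrpCat.{u})) := by
  haveI : PreservesFiniteLimits ((proj J).lan : (J ⥤ AddCommGrpCat.{u}) ⥤ _) := by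
    apply preservesFiniteLimits_of_preservesFiniteLimitsOfSize.{0}
    intro K _ _
    apply preservesLimitsOfShape_of_evaluation _ K
    intro c
    haveI := isFiltered_component J c
    exact preservesLimitsOfShape_of_natIso (lanEvalIso _ _).symm
  haveI : PreservesFiniteLimits (colim (J := Discrete (ConnectedComponents J)) (C := AddCommGrpCat.{u})) :=
    HasExactColimitsOfShape.preservesFiniteLimits
  haveI : PreservesFiniteLimits ((proj J).lan ⋙ colim : (J ⥤ AddCommGrpCat.{u}) ⥤ _) :=
    comp_preservesFiniteLimits _ _
  exact preservesFiniteLimits_of_natIso (proj J).lanCompColimIso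

omit [HasPushouts J] [HasCoequalizers J] in
theorem lan_preservesFiniteLimits {C : Type u} [SmallCategory C] (F : C ⥤ J) [HasPullbacks C] [HasEqualizers C]
    [PreservesLimitsOfShape WalkingCospan F] [PreservesLimitsOfShape WalkingParallelPair F] :
    PreservesFiniteLimits (F.op.lan : (Cᵒᵖ ⥤ AddCommGrpCat.{u}) ⥤ Jᵒᵖ ⥤ AddCommGrpCat.{u}) := by
  apply preservesFiniteLimits_of_preservesFiniteLimitsOfSize.{0}
  intro K _ _
  apply preservesLimitsOfShape_of_evaluation _ K
  intro X
  let e := structuredArrowOpEquivalence F (unop X)
  haveI : HasPushouts (CostructuredArrow F.op X) :=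
    Adjunction.hasColimitsOfShape_of_equivalence e.inverse
  haveI : HasCoequalizers (CostructuredArrow F.op X) :=
    Adjunction.hasColimitsOfShape_of_equivalence e.inverse
  haveI := colim_preservesFiniteLimits (CostructuredArrow F.op X)
  exact preservesLimitsOfShape_of_natIso (lanEvalIso _ _).symm

end CompFilLib
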